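import Groth.Agent.EtModUnbLib.Acy
import Groth.Agent.DerLib.KInjRes
import Groth.Agent.DerLib.Horseshoe
import Groth.Prelude.Def_W4c6etmotetsheavesDMod

/-!
# Cohomological dimension of unbounded direct images
-/

set_option autoImplicit false
set_option linter.all false
set_option backward.isDefEq.respectTransparency false
set_option backward.isDefEq.respectTransparency.types false
set_option synthInstance.maxHeartbeats 400000
set_option maxHeartbeats 2000000

universe u

open CategoryTheory CategoryTheory.Limits AlgebraicGeometry Opposite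
open Groth.Agent Groth.Agent.EtShLib EtModUnbLib

attribute [local instance] HasDerivedCategory.standard

noncomputable section

namespace EtDlUnbLib

variable {X S : Scheme.{u}} {f : X ⟶ S}

section
variable {K : CochainComplex (EtCoh.Ab X) ℤ} {l : ℤ} {N : ℕ}

theorem isZero_Rpush_shift (hex : ∀ i : ℤ, l ≤ i → K.ExactAt (i + 1)) (hA : ∀ i, Acy f (K.X i))
    (hV : ∀ q : ℕ, N < q → IsZero ((EtCoh.Rpush f q).obj (K.cycles l))) :
    ∀ (m q : ℕ), 0 < q → N < q + m → IsZero ((EtCoh.Rpush f q).obj (K.cycles (l + m))) := by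
  haveI : (EtCoh.push f).Additive := { }
  intro m
  induction m with
  | zero => intro q _ h; simpa using hV q (by omega)
  | succ m ih =>
    intro q hq h
    have e : l + ((m + 1 : ℕ) : ℤ) = l + (m : ℤ) + 1 := by omega
    rw [e]
    exact RDerLib.isZero_X₃ (cyclesSeq_shortExact' (l + m) (hex _ (by omega))) q
      (ih (q + 1) (by omega) (by omega)) (hA _ q hq)

theorem exactAt_push (hex : ∀ i : ℤ, l ≤ i → K.ExactAt (i + 1)) (hA : ∀ i, Acy f (K.X i))
    (hV : ∀ q : ℕ, N < q → IsZero ((EtCoh.Rpush f q).obj (K.cycles l))) (n : ℤ) (hn : l + N < n) :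
    (((EtCoh.push f).mapHomologicalComplex (ComplexShape.up ℤ)).obj K).ExactAt n := by
  haveI : PreservesLimitsOfSize.{0, 0} (EtCoh.push f) := (EtCoh.pullPushAdj f).rightAdjoint_preservesLimits
  haveI : PreservesFiniteLimits (EtCoh.push f) := PreservesLimitsOfSize.preservesFiniteLimits _
  haveI : (EtCoh.push f).Additive := { }
  have h1 : ∀ i, l + N ≤ i → IsZero ((EtCoh.Rpush f 1).obj (K.cycles i)) := fun i hi => by
    obtain ⟨m, hm⟩ := Int.le.dest (show l ≤ i by omega)
    exact hm ▸ isZero_Rpush_shift hex hA hV m 1 one_pos (by omega)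
  obtain ⟨i, rfl⟩ : ∃ i, n = i + 1 := ⟨n - 1, by omega⟩
  have hi := cyclesSeq_shortExact' i (hex i (by omega))
  haveI : Epi ((EtCoh.push f).map (K.toCycles i (i + 1))) := (RDerLib.epi_map_g_iff _).1
    (RDerLib.epi_map_g hi 0 (h1 i (by omega)))
  rw [HomologicalComplex.exactAt_iff' _ i (i + 1) (i + 1 + 1) (by simp) (by simp)]
  refine (ShortComplex.exact_iff_epi_kernel_lift _).2 ?_
  have hk : IsLimit (KernelFork.ofι ((EtCoh.push f).map (K.iCycles (i + 1)))
      (show (EtCoh.push f).map (K.iCycles (i + 1)) ≫ (EtCoh.push f).map (K.d (i + 1) (i + 1 + 1)) = 0 by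
        rw [← Functor.map_comp, HomologicalComplex.iCycles_d, Functor.map_zero])) :=
    KernelFork.mapIsLimit _ (K.cyclesIsKernel (i + 1) (i + 1 + 1) (by simp)) (EtCoh.push f)
  have e : kernel.lift _ _ (((((EtCoh.push f).mapHomologicalComplex (ComplexShape.up ℤ)).obj K).sc' i (i + 1) (i + 1 + 1)).zero) =
      (EtCoh.push f).map (K.toCycles i (i + 1)) ≫
        (hk.conePointUniqueUpToIso (limit.isLimit _)).hom := by
    rw [← cancel_mono (kernel.ι _), kernel.lift_ι, Category.assoc]
    erw [IsLimit.conePointUniqueUpToIso_hom_comp hk (limit.isLimit _) WalkingParallelPair.zero]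
    exact (congrArg _ (K.toCycles_i i (i + 1))).symm.trans ((EtCoh.push f).map_comp _ _)
  rw [e]
  infer_instance

end

variable {Λ : Type (u + 1)} [CommRing Λ]

theorem exactAt_pushMod {N : ℕ} {K : CochainComplex (EtModW.Mod Λ X) ℤ} {l : ℤ}
    (hex : ∀ i : ℤ, l < i → K.ExactAt i) (hA : ∀ i, acy Λ f (K.X i))
    (hV : ∀ q : ℕ, N < q → IsZero ((EtCoh.Rpush f q).obj ((EtModD.forgetToAb Λ X).obj (K.cycles l))))
    (n : ℤ) (hn : l + N < n) :
    (((EtModW.push Λ f).mapHomologicalComplex (ComplexShape.up ℤ)).obj K).ExactAt n := by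
  haveI := EtModPBCLib.forget_pfl Λ X
  haveI := EtModPBCLib.forget_pfc Λ X
  haveI := EtModPBCLib.forget_pfl Λ S
  haveI := EtModPBCLib.forget_pfc Λ S
  haveI := forget_additive Λ X
  haveI := forget_additive Λ S
  haveI := forget_faithful Λ S
  haveI : (EtCoh.push f).Additive := { }
  let K' := ((EtModD.forgetToAb Λ X).mapHomologicalComplex (ComplexShape.up ℤ)).obj K
  let e : K'.cycles l ≅ (EtModD.forgetToAb Λ X).obj (K.cycles l) := (K.sc l).mapCyclesIso (EtModD.forgetToAb Λ X)
  have h := exactAt_push (f := f) (K := K') (l := l) (N := N) (fun i hi => (hex _ (by omega)).map (EtModD.forgetToAb Λ X)) hA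
    (fun q hq => (hV q hq).of_iso ((EtCoh.Rpush f q).mapIso e)) n hn
  rw [HomologicalComplex.exactAt_iff]
  exact (ShortComplex.exact_map_iff_of_faithful _ (EtModD.forgetToAb Λ S)).1 h

variable (f) [EtBC.HasRpushMod Λ f]

/-- The homology of the derived direct image on a complex of acyclic sheaves, above a bound. -/
theorem isLE_of_resolution {N : ℕ} (P : EtModD.D Λ X) {K : CochainComplex (EtModW.Mod Λ X) ℤ}
    (e : DerivedCategory.Q.obj K ≅ P) [K.IsKInjective] (hinj : ∀ i, Injective (K.X i)) {l : ℤ}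
    (hex : ∀ i : ℤ, l < i → K.ExactAt i)
    (hV : ∀ q : ℕ, N < q → IsZero ((EtCoh.Rpush f q).obj ((EtModD.forgetToAb Λ X).obj (K.cycles l)))) :
    ((EtBC.RpushModD Λ f).obj P).IsLE (l + N) := by
  rw [DerivedCategory.isLE_iff]
  intro n hn
  let up := ComplexShape.up ℤ
  let α := (EtBC.pushModKh Λ f).totalRightDerivedUnit DerivedCategory.Qh (HomotopyCategory.quasiIso (EtModW.Mod Λ X) up)
  haveI : IsIso (α.app ((HomotopyCategory.quotient _ up).obj K)) :=
    DerLib.KInjDerived.isIso_app (EtBC.RpushModD Λ f) α (DerLib.KInjDerived.enoughKInj _) K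
  let i : DerivedCategory.Q.obj (((EtModW.push Λ f).mapHomologicalComplex up).obj K) ≅ (EtBC.RpushModD Λ f).obj P :=
    (DerivedCategory.quotientCompQhIso (EtModW.Mod Λ S)).symm.app _ ≪≫
      (asIso (α.app ((HomotopyCategory.quotient _ up).obj K)) :
        DerivedCategory.Qh.obj ((HomotopyCategory.quotient _ up).obj (((EtModW.push Λ f).mapHomologicalComplex up).obj K)) ≅
          (EtBC.RpushModD Λ f).obj (DerivedCategory.Qh.obj ((HomotopyCategory.quotient _ up).obj K))) ≪≫
      (EtBC.RpushModD Λ f).mapIso ((DerivedCategory.quotientCompQhIso (EtModW.Mod Λ X)).app K ≪≫ e)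
  exact (exactAt_pushMod hex (fun i => acy_injective f _ (hinj i)) hV n hn).isZero_homology.of_iso
    ((DerivedCategory.homologyFunctor _ n).mapIso i.symm ≪≫ (DerivedCategory.homologyFunctorFactors _ n).app _)

/-- A uniform bound on the higher direct images of torsion sheaves bounds the unbounded derived direct image. -/
theorem isLE_RpushModD {N : ℕ} {n₀ : ℕ} (hn₀ : 0 < n₀) (hΛ : (n₀ : Λ) = 0)
    (hN : ∀ F : EtCoh.Ab X, EtCoh.IsTorsion F → ∀ q, N < q → IsZero ((EtCoh.Rpush f q).obj F))
    (P : EtModD.D Λ X) (b : ℤ) [P.IsLE b] : ((EtBC.RpushModD Λ f).obj P).IsLE (b + N) := by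
  obtain ⟨I, j, hI, hj, hIi⟩ := DerLib.KInjRes.exists_resolution (DerivedCategory.Q.objPreimage P)
  haveI := hI
  haveI : QuasiIso j := (HomologicalComplex.mem_quasiIso_iff _).1 hj.2
  let e : DerivedCategory.Q.obj I ≅ P := (asIso (DerivedCategory.Q.map j)).symm ≪≫ DerivedCategory.Q.objObjPreimageIso P
  refine isLE_of_resolution f P e hIi (fun i hi => ?_) fun q hq => hN _
    (isTorsion_of_nsmul_id hn₀ (nsmul_id_forget hΛ _)) q hq
  rw [HomologicalComplex.exactAt_iff_isZero_homology]
  exact (DerivedCategory.isZero_of_isLE P b i hi).of_iso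
    (((DerivedCategory.homologyFunctorFactors _ i).app I).symm ≪≫ (DerivedCategory.homologyFunctor _ i).mapIso e)

/-- Bounds in degree zero from the higher direct images of the sheaf itself. -/
theorem bounds_single {N : ℕ} (M : EtModW.Mod Λ X)
    (hV : ∀ q : ℕ, N < q → IsZero ((EtCoh.Rpush f q).obj ((EtModD.forgetToAb Λ X).obj M))) (i : ℤ)
    (hi : i < 0 ∨ (N : ℤ) < i) :
    IsZero ((DerivedCategory.homologyFunctor (EtModW.Mod Λ S) i).obj
      ((EtBC.RpushModD Λ f).obj ((DerivedCategory.singleFunctor (EtModW.Mod Λ X) 0).obj M))) := by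
  let up := ComplexShape.up ℤ
  let C : CochainComplex (EtModW.Mod Λ X) ℤ := (CochainComplex.singleFunctor (EtModW.Mod Λ X) 0).obj M
  haveI : C.IsStrictlyGE 0 := inferInstance
  obtain ⟨I, j, hI, hinj, -, hj⟩ := DerLib.Horseshoe.exists_injective_resolution C 0
  haveI := hI
  haveI := hj
  haveI : I.IsKInjective := CochainComplex.isKInjective_of_injective I 0
  let e : DerivedCategory.Q.obj I ≅ (DerivedCategory.singleFunctor (EtModW.Mod Λ X) 0).obj M :=
    (asIso (DerivedCategory.Q.map j)).symm ≪≫ ((DerivedCategory.singleFunctorIsoCompQ _ 0).app M).symm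
  rcases hi with hi | hi
  · let α := (EtBC.pushModKh Λ f).totalRightDerivedUnit DerivedCategory.Qh (HomotopyCategory.quasiIso (EtModW.Mod Λ X) up)
    haveI : IsIso (α.app ((HomotopyCategory.quotient _ up).obj I)) :=
      DerLib.KInjDerived.isIso_app (EtBC.RpushModD Λ f) α (DerLib.KInjDerived.enoughKInj _) I
    let k : DerivedCategory.Q.obj (((EtModW.push Λ f).mapHomologicalComplex up).obj I) ≅
        (EtBC.RpushModD Λ f).obj ((DerivedCategory.singleFunctor (EtModW.Mod Λ X) 0).obj M) :=
      (DerivedCategory.quotientCompQhIso (EtModW.Mod Λ S)).symm.app _ ≪≫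
        (asIso (α.app ((HomotopyCategory.quotient _ up).obj I)) :
          DerivedCategory.Qh.obj ((HomotopyCategory.quotient _ up).obj (((EtModW.push Λ f).mapHomologicalComplex up).obj I)) ≅
            (EtBC.RpushModD Λ f).obj (DerivedCategory.Qh.obj ((HomotopyCategory.quotient _ up).obj I))) ≪≫
        (EtBC.RpushModD Λ f).mapIso ((DerivedCategory.quotientCompQhIso (EtModW.Mod Λ X)).app I ≪≫ e)
    let PI : CochainComplex (EtModW.Mod Λ S) ℤ := ((EtModW.push Λ f).mapHomologicalComplex up).obj I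
    haveI : PI.IsStrictlyGE 0 := inferInstanceAs
      (CochainComplex.IsStrictlyGE (((EtModW.push Λ f).mapHomologicalComplex (ComplexShape.up ℤ)).obj I) 0)
    exact (PI.exactAt_of_isGE 0 i hi).isZero_homology.of_iso
      ((DerivedCategory.homologyFunctor _ i).mapIso k.symm ≪≫ (DerivedCategory.homologyFunctorFactors _ i).app _)
  · have hd : I.d (-1) 0 = 0 := (I.isZero_of_isStrictlyGE 0 (-1) (by omega)).eq_of_src _ _
    haveI hqa : ∀ m, QuasiIsoAt j m := fun m => (quasiIso_iff j).1 hj m
    haveI : IsIso (HomologicalComplex.homologyMap j 0) := (quasiIsoAt_iff_isIso_homologyMap j 0).1 (hqa 0)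
    let eZ : I.cycles 0 ≅ M :=
      I.isoHomologyπ (-1) 0 (by simp) hd ≪≫ (asIso (HomologicalComplex.homologyMap j 0)).symm ≪≫
        (HomologicalComplex.singleObjHomologySelfIso up 0 M)
    haveI := isLE_of_resolution f ((DerivedCategory.singleFunctor (EtModW.Mod Λ X) 0).obj M) (N := N) e hinj (l := 0)
      (fun m hm => by
        haveI : C.IsStrictlyLE 0 := inferInstance
        exact (quasiIsoAt_iff_exactAt j m (C.exactAt_of_isLE 0 m hm)).1 (hqa m))
      (fun q hq => (hV q hq).of_iso ((EtCoh.Rpush f q).mapIso ((EtModD.forgetToAb Λ X).mapIso eZ)))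
    exact DerivedCategory.isZero_of_isLE _ (0 + (N : ℤ)) i (by omega)

end EtDlUnbLib

end
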