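import Groth.Agent.EtModPBCLib.Forget
import Groth.Agent.EtShLib.Shriek
import Groth.Agent.EpsLib.ModComm
import Groth.Prelude.Def_EtDl

/-!
# Extension by zero of modules and of the underlying abelian sheaves
-/

set_option autoImplicit false
set_option linter.all false
set_option backward.isDefEq.respectTransparency false
set_option backward.isDefEq.respectTransparency.types false
set_option synthInstance.maxHeartbeats 400000
set_option maxHeartbeats 1000000

universe u

open CategoryTheory CategoryTheory.Limits AlgebraicGeometry Opposite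
open Groth.Agent Groth.Agent.EtShLib

noncomputable section

namespace EtDlUnbLib

variable (Λ : Type (u + 1)) [CommRing Λ] {U X : Scheme.{u}} (j : U ⟶ X) [Etale j] [EtShriek.JCont j]

theorem nonempty_forget_extZero :
    Nonempty (EtModD.forgetToAb Λ U ⋙ EtShriek.extZero j ≅ EtDl.extZeroMod Λ j ⋙ EtModD.forgetToAb Λ X) := by
  let a₁ := (EpsLib.adjC Λ U.smallEtaleTopology).comp (EtShriek.extZeroAdj j)
  let a₂ := (EtDl.extZeroModAdj Λ j).comp (EpsLib.adjC Λ X.smallEtaleTopology)
  exact ⟨a₁.leftAdjointUniq (a₂.ofNatIsoRight (Iso.refl _))⟩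

theorem preservesFiniteLimits_extZeroMod [IsOpenImmersion j] : PreservesFiniteLimits (EtDl.extZeroMod Λ j) := by
  obtain ⟨e⟩ := nonempty_forget_extZero Λ j
  haveI := EtModPBCLib.forget_pfl Λ U
  haveI := EtModPBCLib.forget_pfl Λ X
  haveI := EtShLib.preservesFiniteLimits_extZero j
  haveI := EtModPBCLib.forget_reflectsIso Λ X
  haveI : PreservesFiniteLimits (EtDl.extZeroMod Λ j ⋙ EtModD.forgetToAb Λ X) :=
    preservesFiniteLimits_of_natIso e
  haveI : ReflectsFiniteLimits (EtModD.forgetToAb Λ X) :=
    ⟨fun J _ _ => reflectsLimitsOfShape_of_reflectsIsomorphisms⟩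
  exact preservesFiniteLimits_of_reflects_of_preserves _ (EtModD.forgetToAb Λ X)

end EtDlUnbLib

end
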