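import Groth.Agent.DerLib.KInjEnough
import Groth.Agent.DerPlusAdjLib.Main

/-!
# Right derived functors on bounded below objects as restrictions of unbounded ones
-/

set_option autoImplicit false
set_option linter.all false
set_option backward.isDefEq.respectTransparency false
set_option backward.isDefEq.respectTransparency.types false
set_option maxHeartbeats 1000000

open CategoryTheory CategoryTheory.Limits Groth.Agent.DerLib

noncomputable section

namespace EtDlUnbLib

universe v₁ v₂ u₁ u₂ w₁ w₂

variable {A : Type u₁} [Category.{v₁} A] [Abelian A] [IsGrothendieckAbelian.{v₁} A] [HasDerivedCategory.{w₁} A]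
  {B : Type u₂} [Category.{v₂} B] [Abelian B] [HasDerivedCategory.{w₂} B]
  (G : A ⥤ B) [G.Additive] (RF : DerivedCategory A ⥤ DerivedCategory B)
  (α : G.mapHomotopyCategory (ComplexShape.up ℤ) ⋙ DerivedCategory.Qh ⟶ DerivedCategory.Qh ⋙ RF)
  [RF.IsRightDerivedFunctor α (HomotopyCategory.quasiIso A (ComplexShape.up ℤ))]

include α in
theorem nonempty_plus_iota :
    Nonempty (G.rightDerivedFunctorPlus ⋙ DerivedCategory.Plus.ι ≅ DerivedCategory.Plus.ι ⋙ RF) := by
  let W := HomotopyCategory.Plus.quasiIso A
  let T := G.mapHomotopyCategoryPlus ⋙ DerivedCategory.Plus.Qh ⋙ DerivedCategory.Plus.ι (C := B)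
  let a₁ : T ⟶ DerivedCategory.Plus.Qh ⋙ (G.rightDerivedFunctorPlus ⋙ DerivedCategory.Plus.ι) :=
    (Functor.associator _ _ _).inv ≫ Functor.whiskerRight G.rightDerivedFunctorPlusUnit DerivedCategory.Plus.ι ≫
      (Functor.associator _ _ _).hom
  let a₂ : T ⟶ DerivedCategory.Plus.Qh ⋙ (DerivedCategory.Plus.ι ⋙ RF) :=
    Functor.whiskerLeft (HomotopyCategory.Plus.ι A) α
  haveI : (G.rightDerivedFunctorPlus ⋙ DerivedCategory.Plus.ι (C := B)).IsRightDerivedFunctor a₁ W :=
    (HomotopyCategory.Plus.localizerMorphism_derives _).isRightDerivedFunctor_of_isIso _ fun Y => by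
      simp only [a₁, NatTrans.comp_app, Functor.whiskerRight_app]
      infer_instance
  haveI : (DerivedCategory.Plus.ι (C := A) ⋙ RF).IsRightDerivedFunctor a₂ W :=
    (HomotopyCategory.Plus.localizerMorphism_derives _).isRightDerivedFunctor_of_isIso _ fun Y => by
      let K : HomotopyCategory.Plus A := (InjectiveObject.ι A).mapHomotopyCategoryPlus.obj Y
      haveI : ∀ n : ℤ, Injective (K.obj.as.X n) := fun n => (Y.obj.as.X n).2
      obtain ⟨n, hn⟩ : CochainComplex.plus A K.obj.as :=
        (HomotopyCategory.plus_quotient_obj_iff K.obj.as).1 K.property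
      haveI := hn
      haveI : CochainComplex.IsKInjective K.obj.as := CochainComplex.isKInjective_of_injective K.obj.as n
      exact KInjDerived.isIso_app RF α (KInjDerived.enoughKInj A) K.obj.as
  exact ⟨Functor.rightDerivedUnique _ _ a₁ a₂ W⟩

end EtDlUnbLib

end
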