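import Groth.Agent.EtDlUnbLib.Gen
import Groth.Agent.EtDlUnbLib.Cd
import Groth.Agent.EtDlUnbLib.ExtZero
import Groth.Agent.EtModUnbLib.Coprod
import Groth.Agent.EtModUnbLib.LeftAdj
import Groth.Agent.EtPBCCdLib.Bounded
import Groth.Agent.DerLib.KInjTriangulated

/-!
# The extraordinary inverse image for bounded below complexes
-/

set_option autoImplicit false
set_option linter.all false
set_option backward.isDefEq.respectTransparency false
set_option backward.isDefEq.respectTransparency.types false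
set_option synthInstance.maxHeartbeats 400000
set_option maxHeartbeats 2000000

universe u

open CategoryTheory CategoryTheory.Limits AlgebraicGeometry Opposite
open Groth.Agent Groth.Agent.EtShLib

attribute [local instance] HasDerivedCategory.standard

noncomputable section

namespace EtDlUnbLib

variable {Λ : Type (u + 1)} [CommRing Λ] {X S : Scheme.{u}} {f : X ⟶ S} (c : DEt.Compactification f)
  [PreservesFiniteLimits (EtDl.extZeroMod Λ c.j)] [EtBC.HasRpushMod Λ c.fbar]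

instance extZeroMod_pfc {U Y : Scheme.{u}} (j : U ⟶ Y) [Etale j] [EtShriek.JCont j] :
    PreservesFiniteColimits (EtDl.extZeroMod Λ j) :=
  haveI : PreservesColimitsOfSize.{0, 0} (EtDl.extZeroMod Λ j) := (EtDl.extZeroModAdj Λ j).leftAdjoint_preservesColimits
  PreservesColimitsOfSize.preservesFiniteColimits _

/-- The unbounded `Rf_!`. -/
abbrev LU : EtModD.D Λ X ⥤ EtModD.D Λ S :=
  (EtDl.extZeroMod Λ c.j).mapDerivedCategory ⋙ EtBC.RpushModD Λ c.fbar

theorem nonempty_plus_LU :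
    Nonempty (EtDl.RshriekPlus Λ c ⋙ DerivedCategory.Plus.ι ≅ DerivedCategory.Plus.ι ⋙ LU c) := by
  let up := ComplexShape.up ℤ
  haveI : (EtDl.extZeroMod Λ c.j).mapDerivedCategory.IsRightDerivedFunctor
      (EtDl.extZeroMod Λ c.j).mapDerivedCategoryFactorsh.inv
      (HomotopyCategory.quasiIso (EtModW.Mod Λ X) up) :=
    Functor.isRightDerivedFunctor_of_inverts _ _ (EtDl.extZeroMod Λ c.j).mapDerivedCategoryFactorsh
  obtain ⟨e₁⟩ := nonempty_plus_iota (EtDl.extZeroMod Λ c.j) (EtDl.extZeroMod Λ c.j).mapDerivedCategory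
    (EtDl.extZeroMod Λ c.j).mapDerivedCategoryFactorsh.inv
  obtain ⟨e₂⟩ := nonempty_plus_iota (EtModW.push Λ c.fbar) (EtBC.RpushModD Λ c.fbar)
    ((EtBC.pushModKh Λ c.fbar).totalRightDerivedUnit DerivedCategory.Qh (HomotopyCategory.quasiIso (EtModW.Mod Λ c.Xbar) up))
  exact ⟨Functor.associator _ _ _ ≪≫ Functor.isoWhiskerLeft _ e₂ ≪≫ (Functor.associator _ _ _).symm ≪≫
    Functor.isoWhiskerRight e₁ _ ≪≫ Functor.associator _ _ _⟩

theorem exists_triangulated : ∃ _ : (LU (Λ := Λ) c).CommShift ℤ, (LU (Λ := Λ) c).IsTriangulated := by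
  obtain ⟨_, _⟩ := DerLib.KInjDerived.exists_isTriangulated_map (DerLib.KInjDerived.enoughKInj _) (EtModW.push Λ c.fbar)
    (EtBC.RpushModD Λ c.fbar) ((EtBC.pushModKh Λ c.fbar).totalRightDerivedUnit DerivedCategory.Qh
      (HomotopyCategory.quasiIso (EtModW.Mod Λ c.Xbar) (ComplexShape.up ℤ)))
  exact ⟨inferInstance, inferInstance⟩

variable {n : ℕ} (hn : 0 < n) (hΛ : (n : Λ) = 0)

include hn hΛ

theorem isLeftAdjoint_LU : (LU (Λ := Λ) c).IsLeftAdjoint := by
  haveI := EtModUnbLib.preservesSums_RpushModD (Λ := Λ) c.fbar hn hΛ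
  haveI : (EtBC.RpushModD Λ c.fbar).IsLeftAdjoint :=
    EtModUnbLib.isLeftAdjoint_derived.{u + 1} (EtModW.push Λ c.fbar) (EtBC.RpushModD Λ c.fbar)
      ((EtBC.pushModKh Λ c.fbar).totalRightDerivedUnit DerivedCategory.Qh
        (HomotopyCategory.quasiIso (EtModW.Mod Λ c.Xbar) (ComplexShape.up ℤ)))
  let R := EtDl.restrMod Λ c.j
  haveI : (R.mapHomotopyCategory (ComplexShape.up ℤ) ⋙ DerivedCategory.Qh).HasRightDerivedFunctor
      (HomotopyCategory.quasiIso (EtModW.Mod Λ c.Xbar) (ComplexShape.up ℤ)) :=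
    DerLib.KInjDerived.hasRightDerivedFunctor _ (DerLib.KInjDerived.enoughKInj _)
  haveI : (EtDl.extZeroMod Λ c.j).mapDerivedCategory.IsLeftAdjoint :=
    (DerLib.KInjDerived.derivedAdj (EtDl.extZeroModAdj Λ c.j) _
      ((R.mapHomotopyCategory (ComplexShape.up ℤ) ⋙ DerivedCategory.Qh).totalRightDerivedUnit DerivedCategory.Qh
        (HomotopyCategory.quasiIso (EtModW.Mod Λ c.Xbar) (ComplexShape.up ℤ))) (DerLib.KInjDerived.enoughKInj _)).isLeftAdjoint
  infer_instance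

theorem exists_coarse [CompactSpace ↥S] : ∃ N : ℕ, ∀ (K : EtModD.D Λ X) (b : ℤ) [K.IsLE b],
    ((LU c).obj K).IsLE (b + N) := by
  obtain ⟨D, hD⟩ := Groth.Agent.S3389.result c.fbar
  refine ⟨2 * D, fun K b _ => ?_⟩
  haveI : ((EtDl.extZeroMod Λ c.j).mapDerivedCategory.obj K).IsLE b :=
    (DerivedCategory.isLE_iff _ b).2 fun i hi =>
      ((EtDl.extZeroMod Λ c.j).map_isZero (DerivedCategory.isZero_of_isLE K b i hi)).of_iso
        ((DerLib.ExactHomology.homologyIso (EtDl.extZeroMod Λ c.j) i).app K)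
  exact isLE_RpushModD c.fbar hn hΛ (fun F hF q hq => EtPBCCdLib.isZero_Rpush_of_fibre_dim c.fbar D hD F hF q hq)
    ((EtDl.extZeroMod Λ c.j).mapDerivedCategory.obj K) b

theorem isLeftAdjoint_plus [CompactSpace ↥S] : (EtDl.RshriekPlus Λ c).IsLeftAdjoint := by
  haveI := isLeftAdjoint_LU c hn hΛ
  let adj := Adjunction.ofIsLeftAdjoint (LU (Λ := Λ) c)
  obtain ⟨e⟩ := nonempty_plus_LU (Λ := Λ) c
  obtain ⟨N, hN⟩ := exists_coarse (Λ := Λ) c hn hΛ
  have hR : ∀ Y : DerivedCategory.Plus (EtModW.Mod Λ S),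
      DerivedCategory.TStructure.t.plus ((DerivedCategory.Plus.ι ⋙ (LU (Λ := Λ) c).rightAdjoint).obj Y) := by
    intro Y
    obtain ⟨k, hk⟩ := Y.property
    refine ⟨k - N, (DerivedCategory.TStructure.t.isGE_iff_orthogonal (k - N - 1) (k - N) (by omega) _).2 fun K φ hK => ?_⟩
    haveI : K.IsLE (k - N - 1) := hK
    haveI := hN K (k - N - 1)
    apply (adj.homEquiv _ _).symm.injective
    refine (DerivedCategory.TStructure.t.zero_of_isLE_of_isGE _ (k - N - 1 + N) k (by omega) inferInstance hk).trans ?_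
    exact (DerivedCategory.TStructure.t.zero_of_isLE_of_isGE _ (k - N - 1 + N) k (by omega) inferInstance hk).symm
  let R' : DerivedCategory.Plus (EtModW.Mod Λ S) ⥤ DerivedCategory.Plus (EtModW.Mod Λ X) :=
    DerivedCategory.TStructure.t.plus.lift (DerivedCategory.Plus.ι ⋙ (LU (Λ := Λ) c).rightAdjoint) hR
  exact (adj.restrictFullyFaithful (DerivedCategory.TStructure.t.plus.fullyFaithfulι)
    (DerivedCategory.TStructure.t.plus.fullyFaithfulι) e.symm
    (show DerivedCategory.Plus.ι ⋙ (LU (Λ := Λ) c).rightAdjoint ≅ R' ⋙ DerivedCategory.Plus.ι from Iso.refl _)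
    (L := EtDl.RshriekPlus Λ c) (R := R')).isLeftAdjoint

variable {d : ℕ} (hdim : ∀ s : S, topologicalKrullDim ↥(f.fiber s) ≤ d)

include hdim

theorem isZero_LU_bounded (K : EtModD.D Λ X) (a b : ℤ) [K.IsGE a] [K.IsLE b] (i : ℤ)
    (hi : i < a ∨ b + (2 * d : ℕ) < i) :
    IsZero ((DerivedCategory.homologyFunctor (EtModW.Mod Λ S) i).obj ((LU c).obj K)) := by
  obtain ⟨_, _⟩ := exists_triangulated (Λ := Λ) c
  refine EtPBCCdLib.isZero_homology_of_singles (LU c) (fun _ => True) (2 * d) (fun M _ j hj => ?_) K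
    (fun _ => trivial) a b i hi
  obtain ⟨e⟩ := nonempty_forget_extZero Λ c.j
  refine (bounds_single c.fbar ((EtDl.extZeroMod Λ c.j).obj M) (N := 2 * d) (fun q hq => ?_) j hj).of_iso
    ((DerivedCategory.homologyFunctor _ j).mapIso ((EtBC.RpushModD Λ c.fbar).mapIso
      (((EtDl.extZeroMod Λ c.j).mapDerivedCategorySingleFunctor 0).app M)))
  exact (EtPBCCdLib.isZero_Rpush_extZero c.j c.fbar d (fun s => by rw [c.fac]; exact hdim s) _
    (EtModUnbLib.isTorsion_of_nsmul_id hn (EtModUnbLib.nsmul_id_forget hΛ M)) q hq).of_iso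
    ((EtCoh.Rpush c.fbar q).mapIso (e.app M).symm)

theorem isLE_plus (K : DerivedCategory.Plus (EtModW.Mod Λ X)) (b : ℤ) (hK : K.IsLE b) :
    ((EtDl.RshriekPlus Λ c).obj K).IsLE (b + 2 * (d : ℤ)) := by
  obtain ⟨e⟩ := nonempty_plus_LU (Λ := Λ) c
  obtain ⟨a, ha⟩ := K.property
  haveI : K.obj.IsGE a := ha
  haveI : K.obj.IsLE b := (DerivedCategory.Plus.isLE_ι_obj_iff K b).2 hK
  refine (DerivedCategory.Plus.isLE_ι_obj_iff _ _).1 ?_
  rw [DerivedCategory.isLE_iff]
  exact fun i hi => (isZero_LU_bounded c hn hΛ hdim K.obj a b i (Or.inr (by push_cast; omega))).of_iso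
    ((DerivedCategory.homologyFunctor _ i).mapIso (e.app K))

theorem isGE_adjoint (G : DerivedCategory.Plus (EtModW.Mod Λ S) ⥤ DerivedCategory.Plus (EtModW.Mod Λ X))
    (adj : EtDl.RshriekPlus Λ c ⊣ G) (L : DerivedCategory.Plus (EtModW.Mod Λ S)) (k : ℤ) (hL : L.IsGE k) :
    (G.obj L).IsGE (k - 2 * (d : ℤ)) := by
  let t' : Triangulated.TStructure (EtModD.D Λ X) := DerivedCategory.TStructure.t
  obtain ⟨a, ha⟩ := (G.obj L).property
  haveI : (G.obj L).obj.IsGE a := ha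
  let c' : ℤ := k - 2 * (d : ℤ)
  refine (DerivedCategory.Plus.isGE_ι_obj_iff _ _).1 ?_
  show DerivedCategory.IsGE (G.obj L).obj c'
  rw [DerivedCategory.isGE_iff]
  intro i hi
  -- the truncation is bounded
  let T := (t'.truncLT c').obj (G.obj L).obj
  haveI : t'.IsGE (G.obj L).obj (min a c') := t'.isGE_of_ge _ _ a (min_le_left _ _)
  haveI hTge : t'.IsGE T (min a c') := inferInstance
  haveI hTle : t'.IsLE T (c' - 1) := inferInstance
  let Tp : DerivedCategory.Plus (EtModW.Mod Λ X) := ⟨T, min a c', hTge⟩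
  let ι : Tp ⟶ G.obj L := ObjectProperty.homMk ((t'.truncLTι c').app (G.obj L).obj)
  have h1 : ((EtDl.RshriekPlus Λ c).obj Tp).IsLE (k - 1) := by
    have := isLE_plus c hn hΛ hdim Tp (c' - 1) ((DerivedCategory.Plus.isLE_ι_obj_iff Tp _).1 hTle)
    have e : c' - 1 + 2 * (d : ℤ) = k - 1 := by omega
    rwa [e] at this
  have h2 : ∀ ψ : (EtDl.RshriekPlus Λ c).obj Tp ⟶ L, ψ = 0 := fun ψ =>
    (DerivedCategory.Plus.ι (C := EtModW.Mod Λ S)).map_injective
      ((DerivedCategory.TStructure.t.zero_of_isLE_of_isGE (DerivedCategory.Plus.ι.map ψ) (k - 1) k (by omega)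
        ((DerivedCategory.Plus.isLE_ι_obj_iff _ _).2 h1) ((DerivedCategory.Plus.isGE_ι_obj_iff _ _).2 hL)).trans
          (Functor.map_zero _ _ _).symm)
  have h3 : ι = 0 := (adj.homEquiv _ _).symm.injective ((h2 _).trans (h2 _).symm)
  have h4 : (t'.truncLTι c').app (G.obj L).obj = 0 := congrArg (fun φ : Tp ⟶ G.obj L => φ.hom) h3
  have h5 : IsZero T := by
    rw [IsZero.iff_id_eq_zero]
    exact t'.to_truncLT_obj_ext (by rw [zero_comp, Category.id_comp, h4])
  haveI : t'.IsGE (G.obj L).obj c' := (t'.isGE_iff_isZero_truncLT_obj c' _).2 h5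
  exact DerivedCategory.isZero_of_isGE _ c' i hi

theorem injAmplitude (G : DerivedCategory.Plus (EtModW.Mod Λ S) ⥤ DerivedCategory.Plus (EtModW.Mod Λ X))
    (adj : EtDl.RshriekPlus Λ c ⊣ G) (L : DerivedCategory.Plus (EtModW.Mod Λ S)) (m : ℤ)
    (hL : ∀ (F : EtModW.Mod Λ S) (i : ℤ), m < i →
      Subsingleton ((DerivedCategory.Plus.singleFunctor (EtModW.Mod Λ S) 0).obj F ⟶ L⟦i⟧))
    (F : EtModW.Mod Λ X) (i : ℤ) (hi : m < i) :
    Subsingleton ((DerivedCategory.Plus.singleFunctor (EtModW.Mod Λ X) 0).obj F ⟶ (G.obj L)⟦i⟧) := by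
  obtain ⟨e⟩ := nonempty_plus_LU (Λ := Λ) c
  obtain ⟨_, _⟩ := exists_triangulated (Λ := Λ) c
  let ιX := DerivedCategory.Plus.ι (C := EtModW.Mod Λ X)
  let ιS := DerivedCategory.Plus.ι (C := EtModW.Mod Λ S)
  let s := (DerivedCategory.singleFunctor (EtModW.Mod Λ X) 0).obj F
  let P := (DerivedCategory.Plus.singleFunctor (EtModW.Mod Λ X) 0).obj F
  have key : ∀ (K : EtModD.D Λ S) (a : ℤ) (k : ℕ), 0 ≤ a → K.IsGE a → K.IsLE (a + k) →
      Subsingleton (K ⟶ (ιS.obj L)⟦i⟧) := by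
    intro K a k ha _ _
    refine Dual3Lib.prop_of_bounded (fun K => Subsingleton (K ⟶ (ιS.obj L)⟦i⟧))
      (fun e h => ((Iso.homCongr e (Iso.refl _)).symm).subsingleton) (fun T hT h₁ h₃ => ?_)
      (fun h => ⟨fun p q => h.eq_of_src p q⟩) a k K fun q hq hq' => ?_
    · refine subsingleton_of_forall_eq 0 fun φ => ?_
      obtain ⟨ψ, hψ⟩ := Pretriangulated.Triangle.yoneda_exact₂ T hT φ (h₁.elim _ _)
      rw [hψ, h₃.elim ψ 0, comp_zero]
    · let H := (DerivedCategory.homologyFunctor (EtModW.Mod Λ S) q).obj K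
      haveI := hL H (i + q) (by omega)
      let sH := (DerivedCategory.singleFunctor (EtModW.Mod Λ S) 0).obj H
      haveI : Subsingleton (sH ⟶ (ιS.obj L)⟦i + q⟧) :=
        ((Iso.homCongr (Iso.refl _) ((ιS.commShiftIso (i + q)).app L).symm).trans
          (DerivedCategory.TStructure.t.plus.fullyFaithfulι.homEquiv
            (X := (DerivedCategory.Plus.singleFunctor (EtModW.Mod Λ S) 0).obj H) (Y := L⟦i + q⟧)).symm).subsingleton
      let e₁ : (DerivedCategory.singleFunctor (EtModW.Mod Λ S) q).obj H ≅ sH⟦-q⟧ :=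
        (((DerivedCategory.singleFunctors _).shiftIso (-q) q 0 (by omega)).app H).symm
      refine subsingleton_of_forall_eq 0 fun φ => ?_
      apply (shiftFunctor (EtModD.D Λ S) q).map_injective
      let a : sH ≅ ((DerivedCategory.singleFunctor (EtModW.Mod Λ S) q).obj H)⟦q⟧ :=
        ((shiftEquiv' (EtModD.D Λ S) (-q) q (by omega)).unitIso.app sH) ≪≫ (shiftFunctor _ q).mapIso e₁.symm
      rw [← cancel_epi a.hom, ← cancel_mono ((shiftFunctorAdd' (EtModD.D Λ S) i q (i + q) rfl).app (ιS.obj L)).inv]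
      exact Subsingleton.elim _ _
  haveI : (ιX.obj P).IsGE 0 := inferInstanceAs (s.IsGE 0)
  haveI : (ιX.obj P).IsLE 0 := inferInstanceAs (s.IsLE 0)
  have hb := fun j hj => isZero_LU_bounded c hn hΛ hdim (ιX.obj P) 0 0 j hj
  haveI hsub : Subsingleton ((LU c).obj (ιX.obj P) ⟶ (ιS.obj L)⟦i⟧) := key _ 0 (2 * d) le_rfl
    ((DerivedCategory.isGE_iff _ 0).2 fun j hj => hb j (Or.inl hj))
    ((DerivedCategory.isLE_iff _ _).2 fun j hj => hb j (Or.inr hj))
  refine subsingleton_of_forall_eq 0 fun φ => ?_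
  apply (shiftFunctor (DerivedCategory.Plus (EtModW.Mod Λ X)) (-i)).map_injective
  let φ' : P⟦-i⟧ ⟶ G.obj L := φ⟦-i⟧' ≫ (shiftEquiv (DerivedCategory.Plus (EtModW.Mod Λ X)) i).unitIso.inv.app (G.obj L)
  have h0 : ∀ ψ : (EtDl.RshriekPlus Λ c).obj (P⟦-i⟧) ⟶ L, ψ = 0 := fun ψ => by
    apply ιS.map_injective
    rw [Functor.map_zero, ← cancel_epi (((LU c).mapIso ((ιX.commShiftIso (-i)).app P)).symm ≪≫ (e.app (P⟦-i⟧)).symm).hom,
      comp_zero, ← cancel_epi (((LU c).commShiftIso (-i)).app (ιX.obj P)).inv, comp_zero]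
    apply (shiftFunctor (EtModD.D Λ S) i).map_injective
    rw [← cancel_epi ((shiftEquiv' (EtModD.D Λ S) (-i) i (by omega)).unitIso.app ((LU c).obj (ιX.obj P))).hom]
    exact @Subsingleton.elim _ hsub _ _
  have h3 : φ' = 0 := (adj.homEquiv _ _).symm.injective ((h0 _).trans (h0 _).symm)
  rw [Functor.map_zero]
  exact (cancel_mono ((shiftEquiv (DerivedCategory.Plus (EtModW.Mod Λ X)) i).unitIso.inv.app (G.obj L))).1
    (h3.trans zero_comp.symm)

end EtDlUnbLib

end
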